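import Mathlib.AlgebraicGeometry.AlgClosed.Basic
import Mathlib.AlgebraicGeometry.ResidueField
import Mathlib.FieldTheory.IsAlgClosed.AlgebraicClosure
import Mathlib.FieldTheory.Perfect
import Mathlib.FieldTheory.PrimitiveElement
import Mathlib.Data.Set.Card

/-!
# Number of points over a closed point after base change to an algebraic closure
-/

set_option autoImplicit false
universe u
open CategoryTheory CategoryTheory.Limits AlgebraicGeometry

noncomputable section

namespace Groth.H14.MovLem

variable {k : Type u} [Field k] {X : Scheme.{u}} (sX : X ⟶ Spec (CommRingCat.of k))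

/-- The structure map `k → κ(x)`. -/
def structMap (x : X) : CommRingCat.of k ⟶ X.residueField x :=
  Spec.preimage (X.fromSpecResidueField x ≫ sX)

lemma specMap_structMap (x : X) :
    Spec.map (structMap sX x) = X.fromSpecResidueField x ≫ sX :=
  Spec.map_preimage _

lemma finite_structMap [LocallyOfFiniteType sX] (x : X) (hx : IsClosed ({x} : Set X)) :
    (structMap sX x).hom.Finite := by
  have : IsFinite (X.fromSpecResidueField x ≫ sX) := by
    rw [isClosed_singleton_iff_isClosedImmersion] at hx
    rw [isFinite_iff_locallyOfFiniteType_of_jacobsonSpace]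
    infer_instance
  rw [← IsFinite.SpecMap_iff, specMap_structMap]
  infer_instance

/-- Every point of a scheme finite over a field is closed. -/
lemma isClosed_singleton_of_isFinite {K : Type u} [Field K] {T : Scheme.{u}}
    (g : T ⟶ Spec (CommRingCat.of K)) [IsFinite g] (t : T) : IsClosed ({t} : Set T) := by
  haveI : IsAffine T := isAffine_of_isAffineHom g
  have hfin : g.appTop.hom.Finite := g.finite_appTop
  let φ : K →+* Γ(T, ⊤) := ((Scheme.ΓSpecIso (CommRingCat.of K)).inv ≫ g.appTop).hom
  have hφ : φ.Finite := by
    refine RingHom.Finite.comp hfin ?_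
    exact RingHom.Finite.of_surjective _
      (ConcreteCategory.bijective_of_isIso (Scheme.ΓSpecIso (CommRingCat.of K)).inv).2
  letI := φ.toAlgebra
  haveI : Module.Finite K Γ(T, ⊤) := hφ
  haveI : IsArtinianRing Γ(T, ⊤) := IsArtinianRing.of_finite K Γ(T, ⊤)
  haveI : DiscreteTopology (Spec Γ(T, ⊤)) :=
    inferInstanceAs (DiscreteTopology (PrimeSpectrum Γ(T, ⊤)))
  haveI : DiscreteTopology T := T.isoSpec.hom.homeomorph.symm.discreteTopology
  exact isClosed_discrete _

variable {kb : Type u} [Field kb] [Algebra k kb] [IsAlgClosed kb]

/-- The number of points over a closed point is the degree of its residue field. -/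
theorem encard_fibre [PerfectField k] [LocallyOfFiniteType sX]
    (i : Spec (CommRingCat.of kb) ⟶ Spec (CommRingCat.of k))
    (hi : i = Spec.map (CommRingCat.ofHom (algebraMap k kb)))
    (x : X) (hx : IsClosed ({x} : Set X)) :
    ((pullback.fst sX i).base ⁻¹' {x}).encard =
      ((letI := (structMap sX x).hom.toAlgebra; Module.finrank k (X.residueField x) : ℕ) : ℕ∞) := by
  letI := (structMap sX x).hom.toAlgebra
  haveI : Module.Finite k (X.residueField x) := finite_structMap sX x hx
  haveI : Algebra.IsSeparable k (X.residueField x) := inferInstance
  set a := X.fromSpecResidueField x ≫ sX with ha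
  haveI : IsFinite a := by
    rw [ha, ← specMap_structMap, IsFinite.SpecMap_iff]
    exact finite_structMap sX x hx
  let e := pullbackRightPullbackFstIso sX i (X.fromSpecResidueField x)
  let m : pullback a i ⟶ pullback sX i :=
    e.inv ≫ pullback.snd (X.fromSpecResidueField x) (pullback.fst sX i)
  haveI : IsClosedImmersion (X.fromSpecResidueField x) :=
    isClosed_singleton_iff_isClosedImmersion.mp hx
  haveI : IsClosedImmersion m := by dsimp only [m]; infer_instance
  have hrange : Set.range m.base = (pullback.fst sX i).base ⁻¹' {x} := by
    have h1 : Set.range m.base =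
        Set.range (pullback.snd (X.fromSpecResidueField x) (pullback.fst sX i)).base := by
      dsimp only [m]
      rw [Scheme.Hom.comp_base, TopCat.coe_comp, Set.range_comp,
        show Set.range e.inv = Set.univ from Set.range_eq_univ.mpr e.inv.surjective, Set.image_univ]
    rw [h1]
    refine (Scheme.Pullback.range_snd _ _).trans ?_
    rw [Scheme.range_fromSpecResidueField]
  rw [← hrange, ← Set.image_univ, m.isClosedEmbedding.injective.injOn.encard_image,
    Set.encard_univ]
  -- points of `T` are its rational points
  let eT : {p : Spec (CommRingCat.of kb) ⟶ pullback a i // p ≫ pullback.snd a i = 𝟙 _} ≃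
      (pullback a i : Scheme.{u}) :=
    (pointEquivClosedPoint (pullback.snd a i)).trans
      (Equiv.subtypeUnivEquiv (fun t => isClosed_singleton_of_isFinite (pullback.snd a i) t))
  let eJ : {p : Spec (CommRingCat.of kb) ⟶ pullback a i // p ≫ pullback.snd a i = 𝟙 _} ≃
      {j : Spec (CommRingCat.of kb) ⟶ Spec (X.residueField x) // j ≫ a = i} :=
    { toFun := fun p => ⟨p.1 ≫ pullback.fst a i, by
        rw [Category.assoc, pullback.condition, ← Category.assoc, p.2, Category.id_comp]⟩
      invFun := fun j => ⟨pullback.lift j.1 (𝟙 _) (by rw [j.2, Category.id_comp]),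
        pullback.lift_snd _ _ _⟩
      left_inv := fun p => by
        apply Subtype.ext
        apply pullback.hom_ext
        · exact pullback.lift_fst _ _ _
        · exact (pullback.lift_snd _ _ _).trans p.2.symm
      right_inv := fun j => Subtype.ext (pullback.lift_fst _ _ _) }
  let eA : {j : Spec (CommRingCat.of kb) ⟶ Spec (X.residueField x) // j ≫ a = i} ≃
      (X.residueField x →ₐ[k] kb) :=
    { toFun := fun j =>
        { toRingHom := (Spec.preimage j.1).hom
          commutes' := fun r => by
            have h : structMap sX x ≫ Spec.preimage j.1 = CommRingCat.ofHom (algebraMap k kb) := by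
              apply Spec.map_injective
              rw [Spec.map_comp, Spec.map_preimage, specMap_structMap, ← ha, j.2, hi]
            exact congrArg (fun t => t.hom r) h }
      invFun := fun ψ => ⟨Spec.map (CommRingCat.ofHom ψ.toRingHom), by
        have h : structMap sX x ≫ CommRingCat.ofHom ψ.toRingHom =
            CommRingCat.ofHom (algebraMap k kb) := by
          ext r
          exact ψ.commutes r
        rw [ha, ← specMap_structMap, hi, ← h]
        exact (Spec.map_comp _ _).symm⟩
      left_inv := fun j => Subtype.ext (Spec.map_preimage _)
      right_inv := fun ψ => by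
        apply AlgHom.ext
        intro r
        exact congrArg (fun t => t.hom r) (Spec.preimage_map (CommRingCat.ofHom ψ.toRingHom)) }
  rw [← ENat.card_congr ((eJ.trans eA).symm.trans eT), ENat.card_eq_coe_fintype_card,
    AlgHom.card k (X.residueField x) kb]

end Groth.H14.MovLem
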